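import Groth.Agent.FlatLoc6.SerreNormal
import Groth.Agent.AssPtX.Noeth
import Groth.Agent.Proj16.Points
import Mathlib.AlgebraicGeometry.ProjectiveSpectrum.Basic

/-! Associated primes of homogeneous localisations. -/

noncomputable section

set_option autoImplicit false
set_option linter.style.haveILetI false

universe u

open CategoryTheory AlgebraicGeometry HomogeneousLocalization

namespace Groth.Agent.ProjSk

open Groth.Agent

/-- Associated primes of a subring are minimal when those of the overring are, given cancellation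
at the minimal primes of the overring. -/
theorem minimal_of_injective {B L : Type u} [CommRing B] [CommRing L] [IsNoetherianRing L] (φ : B →+* L)
    (hφ : Function.Injective φ) (hass : associatedPrimes L L ⊆ minimalPrimes L)
    (hcancel : ∀ P ∈ minimalPrimes L, ∀ b ∈ P.comap φ, ∃ c ∉ P.comap φ, ∃ n : ℕ, c * b ^ n = 0) :
    associatedPrimes B B ⊆ minimalPrimes B := by
  classical
  rintro q ⟨hq, x, hx⟩
  have hq' : q = ((⊥ : Submodule L L).colon {φ x}).radical.comap φ := by
    rw [hx]
    ext b
    simp only [Ideal.mem_radical_iff, Ideal.mem_comap, Submodule.mem_colon_singleton, Submodule.mem_bot,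
      smul_eq_mul]
    refine exists_congr fun n => ?_
    rw [← map_pow, ← map_mul]
    exact (map_eq_zero_iff φ hφ).symm
  set J := (⊥ : Submodule L L).colon {φ x}
  have hfin : J.minimalPrimes.Finite := Ideal.finite_minimalPrimes_of_isNoetherianRing L J
  have hinf : hfin.toFinset.inf (fun P => P.comap φ) ≤ q := fun b hb => by
    rw [hq', Ideal.mem_comap, ← Ideal.sInf_minimalPrimes, Submodule.mem_sInf]
    intro P hP
    have := (Finset.inf_le (f := fun P => P.comap φ) (hfin.mem_toFinset.2 hP)) hb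
    exact this
  obtain ⟨P, hP, hPq⟩ := (hq.inf_le' ).1 hinf
  rw [hfin.mem_toFinset] at hP
  have hqP : q ≤ P.comap φ := by
    rw [hq']
    exact Ideal.comap_mono (hP.1.1.radical_le_iff.2 hP.1.2)
  have hqeq : q = P.comap φ := le_antisymm hqP hPq
  have hPm : P ∈ minimalPrimes L := hass (AssPtX.weakAss_subset_associatedPrimes
    ((WeakAss.mem_weakAss_iff).2 ⟨φ x, by rwa [← AssPtX.colon_bot_singleton]⟩))
  refine ⟨⟨hq, bot_le⟩, fun q' hq' hle b hb => ?_⟩
  obtain ⟨c, hc, n, hn⟩ := hcancel P hPm b (hqP hb)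
  have hc' : c ∉ q' := fun h => hc (hqP (hle h))
  exact hq'.1.mem_of_pow_mem n ((hq'.1.mem_or_mem (hn ▸ Ideal.zero_mem q' : c * b ^ n ∈ q')).resolve_left hc')

theorem hasSk_one_of_minimal {R : Type u} [CommRing R] [IsNoetherianRing R]
    (h : associatedPrimes R R ⊆ minimalPrimes R) : LocCoh.HasSk 1 R R := by
  rw [FlatLoc6.hasSk_self_iff]
  intro p hp
  rw [← FlatLoc6.depth_self_atPrime]
  rcases eq_or_ne p.height 0 with h0 | h0
  · simp [h0]
  · refine le_trans (min_le_left _ _) ?_
    rw [Nat.cast_one, Alg6.one_le_depth_atPrime_iff]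
    exact fun hass => h0 (Ideal.height_eq_zero_iff.2 (h hass))

theorem exists_mul_pow_eq_zero {L : Type u} [CommRing L] {P : Ideal L} (hP : P ∈ minimalPrimes L) {y : L}
    (hy : y ∈ P) : ∃ u ∉ P, ∃ n : ℕ, u * y ^ n = 0 := by
  haveI := hP.1.1
  by_contra hcon
  push Not at hcon
  -- the multiplicative set generated by the complement and `y` avoids `0`
  let S : Submonoid L := P.primeCompl ⊔ Submonoid.powers y
  have hS : (0 : L) ∉ S := by
    intro h
    obtain ⟨u, hu, v, ⟨n, rfl⟩, huv⟩ := Submonoid.mem_sup.1 h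
    exact hcon u hu n huv
  obtain ⟨Q, hQ, -, hQS⟩ := Ideal.exists_le_prime_disjoint (⊥ : Ideal L) S
    (Set.disjoint_left.2 fun z hz hzS => hS (by
      rw [Submodule.bot_coe, Set.mem_singleton_iff] at hz
      rwa [hz] at hzS))
  have hQP : Q ≤ P := fun z hz => by
    by_contra hzP
    exact Set.disjoint_left.1 hQS hz (Submonoid.mem_sup_left hzP)
  exact Set.disjoint_left.1 hQS (hP.2 ⟨hQ, bot_le⟩ hQP hy) (Submonoid.mem_sup_right (Submonoid.mem_powers y))

theorem localization_minimal {A : Type u} [CommRing A] [IsNoetherianRing A] (hA : LocCoh.HasSk 1 A A)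
    (M : Submonoid A) :
    associatedPrimes (Localization M) (Localization M) ⊆ minimalPrimes (Localization M) := by
  intro P hP
  haveI := hP.1
  have h1 : P.comap (algebraMap A (Localization M)) ∈ associatedPrimes A A :=
    Module.associatedPrimes.comap_mem_associatedPrimes_of_mem_associatedPrimes_of_isLocalizedModule_of_fg M
      (Algebra.linearMap A (Localization M)) P hP (IsNoetherian.noetherian _)
  have h2 := FlatLoc6.height_eq_zero_of_mem_ass hA h1
  rw [← Ideal.height_eq_zero_iff, ← IsLocalization.height_under M P]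
  exact h2

variable {A : Type u} [CommRing A] (𝒜 : ℕ → AddSubgroup A) [GradedRing 𝒜]

/-- Stalks of `Proj` of a ring satisfying (S_1). -/
theorem hasSk_one_stalk [IsNoetherianRing A] (hA : LocCoh.HasSk 1 A A) (x : Proj 𝒜) :
    LocCoh.HasSk 1 ((Proj 𝒜).presheaf.stalk x) ((Proj 𝒜).presheaf.stalk x) := by
  classical
  haveI := Proj16.isNoetherian_proj 𝒜
  refine hasSk_one_of_minimal ?_
  let p := x.asHomogeneousIdeal.toIdeal
  let φ : (Proj 𝒜).presheaf.stalk x →+* Localization p.primeCompl :=
    (algebraMap (AtPrime 𝒜 p) (Localization p.primeCompl)).comp (Proj.stalkIso 𝒜 x).hom.hom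
  have hbij : Function.Bijective (Proj.stalkIso 𝒜 x).hom.hom :=
    (Proj.stalkIso 𝒜 x).commRingCatIsoToRingEquiv.bijective
  refine minimal_of_injective φ ((HomogeneousLocalization.val_injective _).comp hbij.1)
    (localization_minimal hA _) ?_
  intro P hP b hb
  haveI := hP.1.1
  obtain ⟨i, hi⟩ := HomogeneousLocalization.mk_surjective ((Proj.stalkIso 𝒜 x).hom.hom b)
  -- an element of positive degree outside `p`
  obtain ⟨e, he, f, hfe, hfp⟩ : ∃ (e : ℕ) (_ : 0 < e) (f : A), f ∈ 𝒜 e ∧ f ∉ p := by
    by_contra hcon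
    push Not at hcon
    refine x.not_irrelevant_le fun a ha => ?_
    rw [HomogeneousIdeal.mem_irrelevant_iff, GradedRing.proj_apply] at ha
    rw [← DirectSum.sum_support_decompose 𝒜 a]
    refine Ideal.sum_mem _ fun m hm => ?_
    rcases Nat.eq_zero_or_pos m with rfl | hm0
    · rw [ha]; exact Ideal.zero_mem _
    · exact hcon m hm0 _ (SetLike.coe_mem _)
  have hb' : Localization.mk (i.num : A) ⟨i.den, i.den_mem⟩ ∈ P := by
    rw [← HomogeneousLocalization.val_mk, hi]
    exact hb
  have hnum : algebraMap A (Localization p.primeCompl) (i.num : A) ∈ P := by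
    rw [Localization.mk_eq_mk', IsLocalization.mk'_mem_iff] at hb'
    exact hb'
  obtain ⟨u, hu, n, hn⟩ : ∃ u ∉ P, ∃ n : ℕ, u * (algebraMap A (Localization p.primeCompl) (i.num : A)) ^ n = 0 := by
    exact exists_mul_pow_eq_zero hP hnum
  obtain ⟨⟨a, t⟩, hat⟩ := IsLocalization.surj p.primeCompl u
  have h2 : algebraMap A (Localization p.primeCompl) (a * (i.num : A) ^ n) = 0 := by
    rw [map_mul, map_pow, ← hat, mul_comm u, mul_assoc, hn, mul_zero]
  obtain ⟨t', ht'⟩ := (IsLocalization.map_eq_zero_iff p.primeCompl _ _).1 h2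
  -- a homogeneous component outside `P`
  obtain ⟨m, hm⟩ : ∃ m, algebraMap A (Localization p.primeCompl) (DirectSum.decompose 𝒜 ((t' : A) * a) m : A) ∉ P := by
    by_contra hcon
    push Not at hcon
    have h3 : algebraMap A (Localization p.primeCompl) ((t' : A) * a) ∈ P := by
      rw [← DirectSum.sum_support_decompose 𝒜 ((t' : A) * a), map_sum]
      exact Ideal.sum_mem _ fun j _ => hcon j
    rw [map_mul] at h3
    rcases hP.1.1.mem_or_mem h3 with h | h
    · exact hP.1.1.ne_top (Ideal.eq_top_of_isUnit_mem _ h (IsLocalization.map_units _ t'))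
    · rw [← hat] at h
      rcases hP.1.1.mem_or_mem h with h | h
      · exact hu h
      · exact hP.1.1.ne_top (Ideal.eq_top_of_isUnit_mem _ h (IsLocalization.map_units _ t))
  set w : A := (DirectSum.decompose 𝒜 ((t' : A) * a) m : A) with hw
  have hwn : w * (i.num : A) ^ n = 0 := by
    have hmem : (i.num : A) ^ n ∈ 𝒜 (n • i.deg) := SetLike.pow_mem_graded n i.num.2
    have h3 := DirectSum.coe_decompose_mul_of_right_mem_of_le 𝒜 (a := (t' : A) * a) hmem
      (Nat.le_add_left (n • i.deg) m)
    rw [Nat.add_sub_cancel, mul_assoc, ht', DirectSum.decompose_zero] at h3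
    exact h3.symm
  have hwe : w ^ e ∈ 𝒜 (e * m) := by
    rw [← smul_eq_mul e m]
    exact SetLike.pow_mem_graded e (SetLike.coe_mem (DirectSum.decompose 𝒜 ((t' : A) * a) m))
  have hfm : f ^ m ∈ 𝒜 (e * m) := by
    simpa [mul_comm] using SetLike.pow_mem_graded m hfe
  have hfmp : f ^ m ∈ p.primeCompl := fun h => hfp (x.isPrime.mem_of_pow_mem m h)
  let c : NumDenSameDeg 𝒜 p.primeCompl := ⟨e * m, ⟨w ^ e, hwe⟩, ⟨f ^ m, hfm⟩, hfmp⟩
  obtain ⟨c', hc'⟩ := hbij.2 (HomogeneousLocalization.mk c)
  have hc'val : φ c' = Localization.mk (w ^ e) ⟨f ^ m, hfmp⟩ := by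
    show (((Proj.stalkIso 𝒜 x).hom.hom c')).val = _
    rw [hc']
    exact HomogeneousLocalization.val_mk _
  refine ⟨c', fun h => hm ?_, n, hbij.1 (HomogeneousLocalization.val_injective _ ?_)⟩
  · rw [Ideal.mem_comap, hc'val, Localization.mk_eq_mk', IsLocalization.mk'_mem_iff, map_pow] at h
    exact hP.1.1.mem_of_pow_mem e h
  · rw [map_mul, map_pow, map_zero, hc', ← hi, HomogeneousLocalization.val_mul, HomogeneousLocalization.val_pow,
      HomogeneousLocalization.val_zero, HomogeneousLocalization.val_mk, HomogeneousLocalization.val_mk,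
      Localization.mk_pow, Localization.mk_mul]
    show Localization.mk (w ^ e * (i.num : A) ^ n) _ = 0
    have : w ^ e * (i.num : A) ^ n = 0 := by
      obtain ⟨e', rfl⟩ := Nat.exists_eq_succ_of_ne_zero he.ne'
      rw [pow_succ, mul_assoc, hwn, mul_zero]
    rw [this]
    exact Localization.mk_zero _

end Groth.Agent.ProjSk
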