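import Groth.Agent.LC.DepthExt
import Groth.Agent.LC.ExtDim
import Groth.Agent.ProjSk.S1
import Mathlib.RingTheory.Ideal.KrullsHeightTheorem
import Mathlib.RingTheory.KrullDimension.Regular

/-! Cohen–Macaulay homogeneous localisations. -/

noncomputable section

set_option autoImplicit false
set_option linter.style.haveILetI false

universe u

open CategoryTheory AlgebraicGeometry HomogeneousLocalization RingTheory.Sequence IsLocalRing

namespace Groth.Agent.ProjSk

open Groth.Agent

section Abstract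

variable {B L : Type u} [CommRing B] [IsLocalRing B] [IsNoetherianRing B] [CommRing L] [IsLocalRing L]
  [IsNoetherianRing L] (φ : B →+* L)

theorem mem_ofList_smul_top_iff {R : Type u} [CommRing R] (rs : List R) (z : R) :
    z ∈ (Ideal.ofList rs • ⊤ : Submodule R R) ↔ z ∈ Ideal.ofList rs := by
  rw [show (Ideal.ofList rs • ⊤ : Submodule R R) = Ideal.ofList rs by simp [smul_eq_mul]]

theorem weaklyRegular_of_contracted (hc : ∀ J : Ideal B, (J.map φ).comap φ = J) :
    ∀ rs : List B, IsWeaklyRegular L (rs.map φ) → IsWeaklyRegular B rs := by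
  intro rs
  induction rs using List.reverseRecOn with
  | nil => exact fun _ => .nil B B
  | append_singleton rs x ih =>
    rw [List.map_append, List.map_singleton, LC.isWeaklyRegular_concat_iff, LC.isWeaklyRegular_concat_iff]
    rintro ⟨h1, h2⟩
    refine ⟨ih h1, (isSMulRegular_quotient_iff_mem_of_smul_mem _ _).2 fun z hz => ?_⟩
    rw [mem_ofList_smul_top_iff] at hz ⊢
    rw [isSMulRegular_quotient_iff_mem_of_smul_mem] at h2
    have h3 := h2 (φ z) ((mem_ofList_smul_top_iff _ _).2 (by
      rw [smul_eq_mul, ← map_mul, ← Ideal.map_ofList]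
      exact Ideal.mem_map_of_mem φ hz))
    rw [mem_ofList_smul_top_iff, ← Ideal.map_ofList] at h3
    rw [← hc (Ideal.ofList rs)]
    exact h3

variable (hrad : maximalIdeal L ≤ ((maximalIdeal B).map φ).radical)
  (hle : (maximalIdeal B).map φ ≤ maximalIdeal L)
include hrad hle

theorem exists_seq {d : ℕ} (hd : LocCoh.depth L L = (d : ℕ∞)) :
    ∀ i ≤ d, ∃ rs : List B, rs.length = i ∧ (∀ r ∈ rs, r ∈ maximalIdeal B) ∧ IsWeaklyRegular L (rs.map φ) := by
  intro i
  induction i with
  | zero => exact fun _ => ⟨[], rfl, by simp, .nil L L⟩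
  | succ i ih =>
    intro hi
    obtain ⟨rs, hlen, hmem, hreg⟩ := ih (by omega)
    have hmem' : ∀ r ∈ rs.map φ, r ∈ maximalIdeal L := fun r hr => by
      obtain ⟨s, hs, rfl⟩ := List.mem_map.1 hr
      exact hle (Ideal.mem_map_of_mem φ (hmem s hs))
    let N := L ⧸ (Ideal.ofList (rs.map φ) • ⊤ : Submodule L L)
    have hsum := LC.idealDepth_quot_ofList (maximalIdeal L) hreg hmem'
    have hN : maximalIdeal L • (⊤ : Submodule L N) ≠ ⊤ :=
      LC.smul_top_quot_ne_top (maximalIdeal L) (LC.smul_top_ne_top_of_le_maximal le_rfl)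
        (LC.ofList_le _ hmem')
    have h1 : (1 : ℕ∞) ≤ LocCoh.idealDepth (maximalIdeal L) N := by
      rw [Order.one_le_iff_ne_zero]
      intro h0
      rw [show LocCoh.idealDepth (maximalIdeal L) L = LocCoh.depth L L from rfl, hd, h0, zero_add, List.length_map,
        hlen, Nat.cast_inj] at hsum
      omega
    obtain ⟨ss, hss, hssm, hsslen⟩ := Alg6.exists_length_ge_of_le_idealDepth hN (n := 1) (by exact_mod_cast h1)
    obtain ⟨s, ss, rfl⟩ : ∃ s t, ss = s :: t := by
      rcases ss with _ | ⟨s, t⟩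
      · simp at hsslen
      · exact ⟨s, t, rfl⟩
    have hnass : maximalIdeal L ∉ associatedPrimes L N := fun h =>
      Alg6.isSMulRegular_iff_forall_ass.mp ((isWeaklyRegular_cons_iff N s ss).mp hss).1 _ h
        (hssm s List.mem_cons_self)
    have hfin : (associatedPrimes L N).Finite := associatedPrimes.finite L N
    obtain ⟨x, hxB, hx⟩ : ∃ x ∈ maximalIdeal B, ∀ P ∈ associatedPrimes L N, φ x ∉ P := by
      by_contra hcon
      push Not at hcon
      have hsub : (maximalIdeal B : Set B) ⊆ ⋃ P ∈ (hfin.toFinset : Set (Ideal L)), ((P.comap φ : Ideal B) : Set B) :=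
        fun b hb => by
          obtain ⟨P, hP, hbP⟩ := hcon b hb
          exact Set.mem_iUnion₂.2 ⟨P, hfin.mem_toFinset.2 hP, hbP⟩
      obtain ⟨P, hP, hPle⟩ := (Ideal.subset_union_prime (f := fun P : Ideal L => P.comap φ) ⊥ ⊥ fun P hP _ _ => by
        haveI := (hfin.mem_toFinset.1 hP).isPrime
        exact Ideal.IsPrime.comap φ).1 hsub
      rw [hfin.mem_toFinset] at hP
      haveI := hP.isPrime
      have hmP : maximalIdeal L ≤ P :=
        hrad.trans (hP.isPrime.radical_le_iff.2 (Ideal.map_le_iff_le_comap.2 hPle))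
      exact hnass ((maximalIdeal.isMaximal L).eq_of_le hP.isPrime.ne_top hmP ▸ hP)
    refine ⟨rs ++ [x], by simp [hlen], fun r hr => ?_, ?_⟩
    · rcases List.mem_append.1 hr with hr | hr
      · exact hmem r hr
      · rw [List.mem_singleton.1 hr]; exact hxB
    · rw [List.map_append, List.map_singleton, LC.isWeaklyRegular_concat_iff]
      exact ⟨hreg, Alg6.isSMulRegular_iff_forall_ass.mpr hx⟩

theorem isCM_of_contracted (hc : ∀ J : Ideal B, (J.map φ).comap φ = J)
    (hL : LocCoh.IsCohenMacaulayLocalRing L) : LocCoh.IsCohenMacaulayLocalRing B := by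
  obtain ⟨d, hd⟩ := LC.exists_depth_eq_nat (R := L) (M := L)
  obtain ⟨rs, hlen, hmem, hreg⟩ := exists_seq φ hrad hle hd d le_rfl
  have hmem' : ∀ r ∈ rs.map φ, r ∈ maximalIdeal L := fun r hr => by
    obtain ⟨s, hs, rfl⟩ := List.mem_map.1 hr
    exact hle (Ideal.mem_map_of_mem φ (hmem s hs))
  -- the quotient of `L` has dimension zero
  have hReg : IsRegular L (rs.map φ) :=
    ⟨hreg, (LC.smul_top_ne_top_of_le_maximal (LC.ofList_le _ hmem')).symm⟩
  haveI : Nontrivial (L ⧸ Ideal.ofList (rs.map φ)) := Ideal.Quotient.nontrivial_iff.2 fun h =>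
    (maximalIdeal.isMaximal L).ne_top (top_unique (h ▸ LC.ofList_le _ hmem'))
  have hdim0 : ringKrullDim (L ⧸ Ideal.ofList (rs.map φ)) ≤ 0 := by
    have h := ringKrullDim_add_length_eq_ringKrullDim_of_isRegular (rs.map φ) hReg
    rw [← Module.supportDim_self_eq_ringKrullDim (R := L), hL.supportDim_eq_depth, hd, List.length_map, hlen] at h
    generalize ringKrullDim (L ⧸ Ideal.ofList (rs.map φ)) = z at h
    induction z with
    | bot => exact bot_le
    | coe z =>
      have h' : z + (d : ℕ∞) = (d : ℕ∞) := WithBot.coe_inj.1 h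
      have hz : z = 0 := by
        induction z with
        | top => simp at h'
        | coe z => norm_cast at h' ⊢; omega
      rw [hz]; rfl
  haveI : Ring.KrullDimLE 0 (L ⧸ Ideal.ofList (rs.map φ)) := Ring.krullDimLE_iff.mpr hdim0
  have hmB : maximalIdeal B ≤ (Ideal.ofList rs).radical := by
    intro b hb
    have hbL : Ideal.Quotient.mk (Ideal.ofList (rs.map φ)) (φ b) ∈ nilradical (L ⧸ Ideal.ofList (rs.map φ)) := by
      rw [nilradical_eq_sInf, Submodule.mem_sInf]
      intro (q : Ideal (L ⧸ Ideal.ofList (rs.map φ))) (hq : q.IsPrime)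
      have hqm : q.IsMaximal := inferInstance
      haveI : IsLocalRing (L ⧸ Ideal.ofList (rs.map φ)) :=
        IsLocalRing.of_surjective' (Ideal.Quotient.mk _) Ideal.Quotient.mk_surjective
      rw [IsLocalRing.eq_maximalIdeal hqm, IsLocalRing.mem_maximalIdeal, mem_nonunits_iff]
      intro hu
      haveI : IsLocalHom (Ideal.Quotient.mk (Ideal.ofList (rs.map φ))) :=
        IsLocalHom.of_surjective _ Ideal.Quotient.mk_surjective
      exact (mem_maximalIdeal _).1 (hle (Ideal.mem_map_of_mem φ hb)) (isUnit_of_map_unit _ _ hu)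
    obtain ⟨m, hm⟩ := mem_nilradical.1 hbL
    refine ⟨m, ?_⟩
    rw [← hc (Ideal.ofList rs), Ideal.mem_comap, Ideal.map_ofList, map_pow]
    rwa [← map_pow, Ideal.Quotient.eq_zero_iff_mem] at hm
  have hmin : maximalIdeal B ∈ (Ideal.ofList rs).minimalPrimes :=
    ⟨⟨inferInstance, Ideal.span_le.2 hmem⟩, fun q hq _ => hmB.trans (hq.1.radical_le_iff.2 hq.2)⟩
  have hh : (maximalIdeal B).height ≤ (d : ℕ∞) := by
    refine (Ideal.height_le_spanRank_toENat_of_mem_minimalPrimes _ _ hmin).trans ?_
    classical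
    rw [Submodule.spanRank_toENat_eq_iInf_finset_card]
    refine iInf_le_of_le ⟨rs.toFinset, by rw [Ideal.ofList]; congr 1; ext; simp⟩ ?_
    show ((rs.toFinset.card : ℕ) : ℕ∞) ≤ _
    rw [← hlen]
    exact_mod_cast rs.toFinset_card_le
  have hdep : (d : ℕ∞) ≤ LocCoh.depth B B := by
    have hne : maximalIdeal B • (⊤ : Submodule B B) ≠ ⊤ := LC.smul_top_ne_top_of_le_maximal le_rfl
    show _ ≤ LocCoh.idealDepth _ _
    rw [LocCoh.idealDepth, if_neg hne, ← hlen]
    exact le_iSup₂_of_le rs ⟨weaklyRegular_of_contracted φ hc rs hreg, hmem⟩ le_rfl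
  refine { supportDim_eq_depth := ?_ }
  refine le_antisymm ?_ (LC.depth_le_supportDim B)
  rw [Module.supportDim_self_eq_ringKrullDim, ← IsLocalRing.maximalIdeal_height_eq_ringKrullDim]
  exact WithBot.coe_le_coe.2 (hh.trans hdep)

end Abstract

variable {A : Type u} [CommRing A] (𝒜 : ℕ → AddSubgroup A) [GradedRing 𝒜]

theorem exists_homogeneous_notMem (x : Proj 𝒜) :
    ∃ (e : ℕ) (_ : 0 < e) (f : A), f ∈ 𝒜 e ∧ f ∉ x.asHomogeneousIdeal.toIdeal := by
  classical
  by_contra hcon
  push Not at hcon
  refine x.not_irrelevant_le fun a ha => ?_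
  rw [HomogeneousIdeal.mem_irrelevant_iff, GradedRing.proj_apply] at ha
  rw [← DirectSum.sum_support_decompose 𝒜 a]
  refine Ideal.sum_mem _ fun m hm => ?_
  rcases Nat.eq_zero_or_pos m with rfl | hm0
  · rw [ha]; exact Ideal.zero_mem _
  · exact hcon m hm0 _ (SetLike.coe_mem _)

theorem val_sum {M : Submonoid A} {ι : Type*} (s : Finset ι) (g : ι → HomogeneousLocalization 𝒜 M) :
    (∑ j ∈ s, g j).val = ∑ j ∈ s, (g j).val :=
  map_sum (algebraMap (HomogeneousLocalization 𝒜 M) (Localization M)) g s

theorem mk_sum' {R : Type u} [CommRing R] {M : Submonoid R} {ι : Type*} (s : Finset ι) (g : ι → R) (d : M) :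
    Localization.mk (∑ j ∈ s, g j) d = ∑ j ∈ s, Localization.mk (g j) d := by
  classical
  induction s using Finset.induction_on with
  | empty => simp [Localization.mk_zero]
  | insert a t ha ih => rw [Finset.sum_insert ha, Finset.sum_insert ha, ← ih, Localization.add_mk_self]

section Point

variable (x : Proj 𝒜)

local notation "p" => x.asHomogeneousIdeal.toIdeal
local notation "φ" => algebraMap (AtPrime 𝒜 p) (Localization (Ideal.primeCompl p))

theorem map_maximal_le : (maximalIdeal (AtPrime 𝒜 p)).map φ ≤ maximalIdeal (Localization (Ideal.primeCompl p)) :=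
  Ideal.map_le_iff_le_comap.2 fun b hb => (mem_maximalIdeal _).2 fun hu =>
    (mem_maximalIdeal _).1 hb ((HomogeneousLocalization.isUnit_iff_isUnit_val (f := b)).1 hu)

theorem maximal_le_radical :
    maximalIdeal (Localization (Ideal.primeCompl p)) ≤ ((maximalIdeal (AtPrime 𝒜 p)).map φ).radical := by
  classical
  obtain ⟨e, he, f, hfe, hfp⟩ := exists_homogeneous_notMem 𝒜 x
  rw [← Localization.AtPrime.map_eq_maximalIdeal, Ideal.map_le_iff_le_comap]
  intro a ha
  rw [← DirectSum.sum_support_decompose 𝒜 a]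
  refine Ideal.sum_mem _ fun j _ => ?_
  set y : A := (DirectSum.decompose 𝒜 a j : A) with hy
  have hyp : y ∈ p := x.asHomogeneousIdeal.isHomogeneous j ha
  have hye : y ^ e ∈ 𝒜 (e * j) := by
    rw [← smul_eq_mul e j]
    exact SetLike.pow_mem_graded e (SetLike.coe_mem _)
  have hfj : f ^ j ∈ 𝒜 (e * j) := by
    simpa [mul_comm] using SetLike.pow_mem_graded j hfe
  have hfjp : f ^ j ∈ Ideal.primeCompl p := fun h => hfp (x.isPrime.mem_of_pow_mem j h)
  let c : AtPrime 𝒜 p := HomogeneousLocalization.mk ⟨e * j, ⟨y ^ e, hye⟩, ⟨f ^ j, hfj⟩, hfjp⟩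
  have hcval : φ c = Localization.mk (y ^ e) ⟨f ^ j, hfjp⟩ := HomogeneousLocalization.val_mk _
  have hc : c ∈ maximalIdeal (AtPrime 𝒜 p) := by
    rw [mem_maximalIdeal, mem_nonunits_iff, ← HomogeneousLocalization.isUnit_iff_isUnit_val]
    show ¬ IsUnit (φ c)
    rw [hcval, ← mem_nonunits_iff, ← mem_maximalIdeal, Localization.mk_eq_mk', IsLocalization.mk'_mem_iff,
      ← Ideal.mem_comap, ← Ideal.under_def, Localization.AtPrime.under_maximalIdeal]
    exact Ideal.pow_mem_of_mem _ hyp e he
  refine ⟨e, ?_⟩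
  have h1 : φ c * algebraMap A (Localization (Ideal.primeCompl p)) (f ^ j) =
      algebraMap A (Localization (Ideal.primeCompl p)) y ^ e := by
    rw [hcval, Localization.mk_eq_mk', ← map_pow]
    exact IsLocalization.mk'_spec _ _ _
  rw [← h1]
  exact Ideal.mul_mem_right _ _ (Ideal.mem_map_of_mem _ hc)

theorem contracted (J : Ideal (AtPrime 𝒜 p)) : (J.map φ).comap φ = J := by
  classical
  refine le_antisymm (fun b hb => ?_) Ideal.le_comap_map
  obtain ⟨e, he, f, hfe, hfp⟩ := exists_homogeneous_notMem 𝒜 x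
  -- the homogeneous numerators of elements of `J`
  let Q : Ideal A :=
    { carrier := {a | ∀ (m k : ℕ) (c : A) (hc : c ∈ 𝒜 k) (d : A) (hd : d ∈ 𝒜 (m + k)) (hdp : d ∈ Ideal.primeCompl p),
        HomogeneousLocalization.mk (⟨m + k, ⟨(DirectSum.decompose 𝒜 a m : A) * c,
          SetLike.mul_mem_graded (SetLike.coe_mem _) hc⟩, ⟨d, hd⟩, hdp⟩ : NumDenSameDeg 𝒜 (Ideal.primeCompl p)) ∈ J}
      add_mem' := fun {a a'} ha ha' m k c hc d hd hdp => by
        have h : HomogeneousLocalization.mk (⟨m + k, ⟨(DirectSum.decompose 𝒜 (a + a') m : A) * c,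
            SetLike.mul_mem_graded (SetLike.coe_mem _) hc⟩, ⟨d, hd⟩, hdp⟩ : NumDenSameDeg 𝒜 (Ideal.primeCompl p)) =
          HomogeneousLocalization.mk ⟨m + k, ⟨(DirectSum.decompose 𝒜 a m : A) * c,
            SetLike.mul_mem_graded (SetLike.coe_mem _) hc⟩, ⟨d, hd⟩, hdp⟩ +
          HomogeneousLocalization.mk ⟨m + k, ⟨(DirectSum.decompose 𝒜 a' m : A) * c,
            SetLike.mul_mem_graded (SetLike.coe_mem _) hc⟩, ⟨d, hd⟩, hdp⟩ := by
          apply HomogeneousLocalization.val_injective
          simp only [val_add, val_mk, Localization.add_mk_self]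
          congr 1
          simp only [DirectSum.decompose_add, DirectSum.add_apply]
          push_cast
          ring
        rw [h]
        exact add_mem (ha m k c hc d hd hdp) (ha' m k c hc d hd hdp)
      zero_mem' := fun m k c hc d hd hdp => by
        convert J.zero_mem
        apply HomogeneousLocalization.val_injective
        simp only [val_mk, val_zero, DirectSum.decompose_zero]
        simp [Localization.mk_zero]
      smul_mem' := fun r a ha m k c hc d hd hdp => by
        rw [← DirectSum.sum_support_decompose 𝒜 r]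
        -- reduce to homogeneous multipliers
        have key : ∀ j, HomogeneousLocalization.mk (⟨m + k,
            ⟨(DirectSum.decompose 𝒜 ((DirectSum.decompose 𝒜 r j : A) * a) m : A) * c,
              SetLike.mul_mem_graded (SetLike.coe_mem _) hc⟩, ⟨d, hd⟩, hdp⟩ :
                NumDenSameDeg 𝒜 (Ideal.primeCompl p)) ∈ J := by
          intro j
          by_cases hj : j ≤ m
          · have hd' : d ∈ 𝒜 ((m - j) + (j + k)) := by
              rw [← Nat.add_assoc, Nat.sub_add_cancel hj]; exact hd
            have := ha (m - j) (j + k) ((DirectSum.decompose 𝒜 r j : A) * c)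
              (SetLike.mul_mem_graded (SetLike.coe_mem _) hc) d hd' hdp
            convert this using 1
            apply HomogeneousLocalization.val_injective
            simp only [val_mk]
            congr 1
            rw [DirectSum.coe_decompose_mul_of_left_mem_of_le 𝒜 (SetLike.coe_mem _) hj]
            ring
          · convert J.zero_mem
            apply HomogeneousLocalization.val_injective
            have hz : (DirectSum.decompose 𝒜 ((DirectSum.decompose 𝒜 r j : A) * a) m : A) * c = 0 := by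
              rw [DirectSum.coe_decompose_mul_of_left_mem_of_not_le 𝒜 (SetLike.coe_mem _) hj, zero_mul]
            simp only [val_mk, val_zero, hz]
            exact Localization.mk_zero _
        have hsum : HomogeneousLocalization.mk (⟨m + k, ⟨(DirectSum.decompose 𝒜
            ((∑ j ∈ DFinsupp.support (DirectSum.decompose 𝒜 r), (DirectSum.decompose 𝒜 r j : A)) • a) m : A) * c,
              SetLike.mul_mem_graded (SetLike.coe_mem _) hc⟩, ⟨d, hd⟩, hdp⟩ :
                NumDenSameDeg 𝒜 (Ideal.primeCompl p)) =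
          ∑ j ∈ DFinsupp.support (DirectSum.decompose 𝒜 r), HomogeneousLocalization.mk (⟨m + k,
            ⟨(DirectSum.decompose 𝒜 ((DirectSum.decompose 𝒜 r j : A) * a) m : A) * c,
              SetLike.mul_mem_graded (SetLike.coe_mem _) hc⟩, ⟨d, hd⟩, hdp⟩ :
                NumDenSameDeg 𝒜 (Ideal.primeCompl p)) := by
          apply HomogeneousLocalization.val_injective
          rw [val_sum]
          simp only [val_mk]
          refine Eq.trans ?_ (mk_sum' _ (fun j => (DirectSum.decompose 𝒜 ((DirectSum.decompose 𝒜 r j : A) * a) m : A) * c)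
            (⟨d, hdp⟩ : Ideal.primeCompl p))
          have h : (DirectSum.decompose 𝒜
              ((∑ j ∈ DFinsupp.support (DirectSum.decompose 𝒜 r), (DirectSum.decompose 𝒜 r j : A)) • a) m : A) =
              ∑ j ∈ DFinsupp.support (DirectSum.decompose 𝒜 r),
                (DirectSum.decompose 𝒜 ((DirectSum.decompose 𝒜 r j : A) * a) m : A) :=
            (congrArg (GradedRing.proj 𝒜 m) (by rw [smul_eq_mul, Finset.sum_mul])).trans
              (map_sum (GradedRing.proj 𝒜 m) _ _)
          exact congrArg (fun z => Localization.mk z (⟨d, hdp⟩ : Ideal.primeCompl p))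
            ((congrArg (· * c) h).trans (Finset.sum_mul _ _ _))
        rw [hsum]
        exact J.sum_mem fun j _ => key j }
  have hJQ : J.map φ ≤ Q.map (algebraMap A (Localization (Ideal.primeCompl p))) := by
    rw [Ideal.map_le_iff_le_comap]
    intro j hj
    obtain ⟨⟨i, ⟨n, hn⟩, ⟨d, hd⟩, hdp⟩, rfl⟩ := HomogeneousLocalization.mk_surjective j
    have hnQ : n ∈ Q := fun m k c hc d' hd' hdp' => by
      rcases eq_or_ne m i with rfl | hm
      · have hdc : d * c ∈ 𝒜 (m + k) := SetLike.mul_mem_graded hd hc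
        have h : HomogeneousLocalization.mk (⟨m + k, ⟨(DirectSum.decompose 𝒜 n m : A) * c,
            SetLike.mul_mem_graded (SetLike.coe_mem _) hc⟩, ⟨d', hd'⟩, hdp'⟩ : NumDenSameDeg 𝒜 (Ideal.primeCompl p)) =
          HomogeneousLocalization.mk ⟨m, ⟨n, hn⟩, ⟨d, hd⟩, hdp⟩ *
            HomogeneousLocalization.mk ⟨m + k, ⟨d * c, hdc⟩, ⟨d', hd'⟩, hdp'⟩ := by
          apply HomogeneousLocalization.val_injective
          simp only [val_mul, val_mk, Localization.mk_mul, DirectSum.decompose_of_mem_same 𝒜 hn]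
          rw [Localization.mk_eq_mk_iff, Localization.r_iff_exists]
          refine ⟨1, ?_⟩
          simp only [Submonoid.coe_one, one_mul, Submonoid.coe_mul]
          ring
        rw [h]
        exact Ideal.mul_mem_right _ _ hj
      · convert J.zero_mem
        apply HomogeneousLocalization.val_injective
        have hz : (DirectSum.decompose 𝒜 n m : A) * c = 0 := by
          rw [DirectSum.decompose_of_mem_ne 𝒜 hn hm.symm, zero_mul]
        simp only [val_mk, val_zero, hz]
        exact Localization.mk_zero _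
    rw [Ideal.mem_comap, show φ _ = Localization.mk n ⟨d, hdp⟩ from HomogeneousLocalization.val_mk _,
      Localization.mk_eq_mk', IsLocalization.mk'_mem_iff]
    exact Ideal.mem_map_of_mem _ hnQ
  obtain ⟨⟨i, ⟨n, hn⟩, ⟨d, hd⟩, hdp⟩, rfl⟩ := HomogeneousLocalization.mk_surjective b
  have h1 := hJQ hb
  rw [show φ _ = Localization.mk n ⟨d, hdp⟩ from HomogeneousLocalization.val_mk _, Localization.mk_eq_mk',
    IsLocalization.mk'_mem_iff, IsLocalization.algebraMap_mem_map_algebraMap_iff (Ideal.primeCompl p)] at h1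
  obtain ⟨s, hs, hsn⟩ := h1
  obtain ⟨m, hm⟩ : ∃ m, (DirectSum.decompose 𝒜 s m : A) ∉ p := by
    by_contra hcon
    push Not at hcon
    refine hs ?_
    rw [← DirectSum.sum_support_decompose 𝒜 s]
    exact Ideal.sum_mem _ fun j _ => hcon j
  set w : A := (DirectSum.decompose 𝒜 s m : A) with hw
  have hwn : (DirectSum.decompose 𝒜 (s * n) (m + i) : A) = w * n := by
    rw [DirectSum.coe_decompose_mul_of_right_mem_of_le 𝒜 hn (Nat.le_add_left i m), Nat.add_sub_cancel]
  obtain ⟨e', rfl⟩ := Nat.exists_eq_succ_of_ne_zero he.ne'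
  have hc : w ^ e' * d ^ e' ∈ 𝒜 (e' * m + e' * i) := by
    refine SetLike.mul_mem_graded ?_ ?_
    · rw [← smul_eq_mul e' m]; exact SetLike.pow_mem_graded e' (SetLike.coe_mem _)
    · rw [← smul_eq_mul e' i]; exact SetLike.pow_mem_graded e' hd
  have hF : f ^ (m + i) ∈ 𝒜 ((m + i) + (e' * m + e' * i)) := by
    rw [show (m + i) + (e' * m + e' * i) = (m + i) • (e' + 1) by rw [smul_eq_mul]; ring]
    exact SetLike.pow_mem_graded _ hfe
  have hFp : f ^ (m + i) ∈ Ideal.primeCompl p := fun h => hfp (x.isPrime.mem_of_pow_mem _ h)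
  have hmem := hsn (m + i) (e' * m + e' * i) _ hc _ hF hFp
  -- divide by a unit
  have hu : w ^ (e' + 1) * d ^ (e' + 1) ∈ 𝒜 ((m + i) + (e' * m + e' * i)) := by
    rw [show (m + i) + (e' * m + e' * i) = (e' + 1) • m + (e' + 1) • i by simp only [smul_eq_mul]; ring]
    exact SetLike.mul_mem_graded (SetLike.pow_mem_graded _ (SetLike.coe_mem _)) (SetLike.pow_mem_graded _ hd)
  have hup : w ^ (e' + 1) * d ^ (e' + 1) ∈ Ideal.primeCompl p :=
    mul_mem (pow_mem (show w ∈ Ideal.primeCompl p from hm) _) (pow_mem hdp _)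
  let U : AtPrime 𝒜 p := HomogeneousLocalization.mk
    ⟨(m + i) + (e' * m + e' * i), ⟨f ^ (m + i), hF⟩, ⟨w ^ (e' + 1) * d ^ (e' + 1), hu⟩, hup⟩
  have := Ideal.mul_mem_left J U hmem
  convert this using 1
  apply HomogeneousLocalization.val_injective
  simp only [U, val_mul, val_mk, Localization.mk_mul, hwn]
  rw [Localization.mk_eq_mk_iff, Localization.r_iff_exists]
  refine ⟨1, ?_⟩
  simp only [Submonoid.coe_one, one_mul, Submonoid.coe_mul]
  ring

end Point

end Groth.Agent.ProjSk
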